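import Groth.Prelude.Def_BrSev2
import Mathlib

/-!
# Left ideals of matrix algebras given by lines
-/

set_option autoImplicit false
set_option backward.isDefEq.respectTransparency.types false

universe u

open scoped TensorProduct
open Matrix

namespace Groth.Agent.BrSev28

section Grass

variable {R : Type u} [CommRing R] {M : Type u} [AddCommGroup M] [Module R M] {c : ℕ}

theorem grass_eq_of_le (G₁ G₂ : Module.Grassmannian R M c) (h : G₁.toSubmodule ≤ G₂.toSubmodule) : G₁ = G₂ := by
  refine Module.Grassmannian.ext (le_antisymm h fun x hx => ?_)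
  let f : (M ⧸ G₁.toSubmodule) →ₗ[R] (M ⧸ G₂.toSubmodule) := Submodule.factor h
  have hf : Function.Surjective f := Submodule.factor_surjective h
  obtain ⟨s, hs⟩ := Module.projective_lifting_property f LinearMap.id hf
  have hs' : ∀ y, f (s y) = y := fun y => LinearMap.congr_fun hs y
  let pr : (M ⧸ G₁.toSubmodule) →ₗ[R] LinearMap.ker f :=
    (LinearMap.id - s ∘ₗ f).codRestrict _ fun y => by simp [hs']
  let e : (M ⧸ G₁.toSubmodule) ≃ₗ[R] LinearMap.ker f × (M ⧸ G₂.toSubmodule) :=
    LinearEquiv.ofBijective (pr.prod f) ⟨fun a b hab => by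
      have h1 : (pr a : M ⧸ G₁.toSubmodule) = pr b := congrArg (fun p => ((p.1 : LinearMap.ker f) : M ⧸ G₁.toSubmodule)) hab
      have h2 : f a = f b := congrArg Prod.snd hab
      have h1' : a - s (f a) = b - s (f b) := h1
      rw [h2] at h1'
      exact sub_left_inj.1 h1', fun p => ⟨p.1.1 + s p.2, Prod.ext (Subtype.ext (by
        show p.1.1 + s p.2 - s (f (p.1.1 + s p.2)) = p.1.1
        rw [map_add, hs', LinearMap.mem_ker.1 p.1.2, zero_add, add_sub_cancel_right]))
        (by show f (p.1.1 + s p.2) = p.2; rw [map_add, hs', LinearMap.mem_ker.1 p.1.2, zero_add])⟩⟩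
  haveI : Module.Projective R (LinearMap.ker f) :=
    Module.Projective.of_split (LinearMap.ker f).subtype pr (LinearMap.ext fun y => Subtype.ext (by
      show y.1 - s (f y.1) = y.1
      rw [LinearMap.mem_ker.1 y.2, map_zero, sub_zero]))
  haveI : Module.Finite R (LinearMap.ker f) :=
    Module.Finite.of_surjective pr fun y => ⟨y.1, Subtype.ext (by
      show y.1 - s (f y.1) = y.1
      rw [LinearMap.mem_ker.1 y.2, map_zero, sub_zero])⟩
  have h0 : Module.rankAtStalk (R := R) (LinearMap.ker f) = 0 := by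
    funext p
    have := (congrFun (Module.rankAtStalk_eq_of_equiv e) p).symm.trans (G₁.rankAtStalk_eq p)
    rw [Module.rankAtStalk_prod, Pi.add_apply, G₂.rankAtStalk_eq p] at this
    simpa using this
  haveI := Module.rankAtStalk_eq_zero_iff_subsingleton.1 h0
  have : (Submodule.Quotient.mk x : M ⧸ G₁.toSubmodule) ∈ LinearMap.ker f := by
    rw [LinearMap.mem_ker]
    exact (Submodule.Quotient.mk_eq_zero _).2 hx
  exact (Submodule.Quotient.mk_eq_zero _).1 (congrArg Subtype.val (Subsingleton.elim (⟨_, this⟩ : LinearMap.ker f) 0))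

end Grass

section MapMem

variable {k A : Type u} [Field k] [Ring A] [Algebra k A] {c : ℕ}
  {S T : Type u} [CommRing S] [Algebra k S] [CommRing T] [Algebra k T]

theorem mem_map (φ : S →ₐ[k] T) (N : Module.Grassmannian S (S ⊗[k] A) c) {x : S ⊗[k] A}
    (hx : x ∈ N.toSubmodule) : φ.toLinearMap.rTensor A x ∈ (Module.Grassmannian.map φ N).toSubmodule := by
  letI : Algebra S T := φ.toAlgebra
  haveI : IsScalarTower k S T := IsScalarTower.of_algebraMap_eq' (IsScalarTower.algebraMap_eq k S T)
  rw [Module.Grassmannian.map_toSubmodule, LinearMap.mem_ker]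
  have e : φ.toLinearMap.rTensor A x =
      TensorProduct.AlgebraTensorModule.cancelBaseChange k S T T A ((1 : T) ⊗ₜ[S] x) := by
    clear hx
    induction x using TensorProduct.induction_on with
    | zero => simp
    | tmul s a =>
      simp [TensorProduct.AlgebraTensorModule.cancelBaseChange_tmul, Algebra.smul_def, RingHom.algebraMap_toAlgebra]
    | add a b ha hb => rw [map_add, TensorProduct.tmul_add, map_add, ha, hb]
  rw [e, Module.Grassmannian.baseChangeMkQ, LinearMap.comp_apply, LinearEquiv.coe_coe, LinearEquiv.symm_apply_apply,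
    LinearMap.baseChange_tmul, Submodule.mkQ_apply, (Submodule.Quotient.mk_eq_zero _).2 hx, TensorProduct.tmul_zero]

end MapMem

variable {k A K : Type u} [Field k] [Ring A] [Algebra k A] [Field K] [Algebra k K] {m : ℕ}
  (e : (K ⊗[k] A) ≃ₐ[K] Matrix (Fin (m + 1)) (Fin (m + 1)) K)

variable (S : Type u) [CommRing S] [Algebra k S] [Algebra K S] [IsScalarTower k K S]

/-- The splitting over a `K`-algebra. -/
noncomputable def splitMap : (S ⊗[k] A) →ₐ[S] Matrix (Fin (m + 1)) (Fin (m + 1)) S :=
  Algebra.TensorProduct.lift (Algebra.ofId S _)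
    (((IsScalarTower.toAlgHom k K S).mapMatrix).comp
      ((e.toAlgHom.restrictScalars k).comp Algebra.TensorProduct.includeRight))
    fun s a => Algebra.commutes s _

theorem splitMap_tmul (s : S) (a : A) :
    splitMap e S (s ⊗ₜ a) = s • (e (1 ⊗ₜ a)).map (algebraMap K S) := by
  simp [splitMap, Algebra.algebraMap_eq_smul_one, AlgHom.mapMatrix_apply]

theorem splitMap_bijective : Function.Bijective (splitMap e S) := by
  let E : (S ⊗[k] A) ≃+ Matrix (Fin (m + 1)) (Fin (m + 1)) S :=
    ((TensorProduct.AlgebraTensorModule.cancelBaseChange k K S S A).symm.trans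
      (e.toLinearEquiv.baseChange K S)).toAddEquiv.trans (matrixEquivTensor (Fin (m + 1)) K S).symm.toAddEquiv
  have h : ∀ x, splitMap e S x = E x := fun x => by
    induction x using TensorProduct.induction_on with
    | zero => rw [map_zero, map_zero]
    | tmul s a =>
      rw [splitMap_tmul]
      show _ = (matrixEquivTensor (Fin (m + 1)) K S).symm ((e.toLinearEquiv.baseChange K S)
        ((TensorProduct.AlgebraTensorModule.cancelBaseChange k K S S A).symm (s ⊗ₜ a)))
      rw [TensorProduct.AlgebraTensorModule.cancelBaseChange_symm_tmul, LinearEquiv.baseChange_tmul,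
        matrixEquivTensor_apply_symm]
      rfl
    | add a b ha hb => rw [map_add, map_add, ha, hb]
  have := E.bijective
  rwa [show ⇑E = ⇑(splitMap e S) from (funext h).symm] at this

variable {S}

theorem splitMap_rTensor {T : Type u} [CommRing T] [Algebra k T] [Algebra K T] [IsScalarTower k K T]
    (φ : S →ₐ[K] T) (x : S ⊗[k] A) :
    splitMap e T ((φ.restrictScalars k).toLinearMap.rTensor A x) = (splitMap e S x).map φ := by
  induction x using TensorProduct.induction_on with
  | zero => rw [map_zero, map_zero, map_zero, Matrix.map_zero _ (map_zero φ)]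
  | tmul s a =>
    rw [LinearMap.rTensor_tmul, splitMap_tmul, splitMap_tmul]
    ext i j
    simp [Matrix.map_apply, AlgHom.commutes]
  | add a b ha hb => rw [map_add, map_add, map_add, ha, hb, Matrix.map_add _ (map_add φ)]

/-- Rows proportional to `v`. -/
noncomputable def rowMap (i : Fin (m + 1)) (v : Fin (m + 1) → S) :
    Matrix (Fin (m + 1)) (Fin (m + 1)) S →ₗ[S] (Fin (m + 1) × {l // l ≠ i} → S) where
  toFun M := fun p => M p.1 p.2.1 - M p.1 i * v p.2.1
  map_add' M M' := funext fun p => by simp only [Matrix.add_apply, Pi.add_apply]; ring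
  map_smul' s M := funext fun p => by simp only [Matrix.smul_apply, Pi.smul_apply, RingHom.id_apply, smul_eq_mul]; ring

theorem rowMap_eq_zero {i : Fin (m + 1)} {v : Fin (m + 1) → S} (hv : v i = 1)
    {M : Matrix (Fin (m + 1)) (Fin (m + 1)) S} :
    rowMap i v M = 0 ↔ ∀ r l, M r l = M r i * v l := by
  refine ⟨fun h r l => ?_, fun h => funext fun p => sub_eq_zero.2 (h _ _)⟩
  by_cases hl : l = i
  · rw [hl, hv, mul_one]
  · exact sub_eq_zero.1 (congrFun h (r, ⟨l, hl⟩))

theorem rowMap_surjective (i : Fin (m + 1)) (v : Fin (m + 1) → S) : Function.Surjective (rowMap i v) := fun w =>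
  ⟨fun r l => if h : l = i then 0 else w (r, ⟨l, h⟩), funext fun p => by
    simp [rowMap, p.2.2]⟩

/-- Row map on the tensor product. -/
noncomputable def lineMap (i : Fin (m + 1)) (v : Fin (m + 1) → S) :
    (S ⊗[k] A) →ₗ[S] (Fin (m + 1) × {l // l ≠ i} → S) :=
  (rowMap i v).comp (splitMap e S).toLinearMap

theorem lineMap_surjective (i : Fin (m + 1)) (v : Fin (m + 1) → S) : Function.Surjective (lineMap e i v) := fun w => by
  obtain ⟨M, rfl⟩ := rowMap_surjective i v w
  obtain ⟨x, rfl⟩ := (splitMap_bijective e S).2 M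
  exact ⟨x, rfl⟩

/-- The left ideal of a line. -/
noncomputable def lineIdeal (i : Fin (m + 1)) (v : Fin (m + 1) → S) (hv : v i = 1) :
    BrSev.SBSet k A ((m + 1) * (m + 1) - (m + 1)) S :=
  ⟨{ toSubmodule := LinearMap.ker (lineMap e i v)
     finite_quotient := Module.Finite.equiv (LinearMap.quotKerEquivOfSurjective _ (lineMap_surjective e i v)).symm
     projective_quotient := Module.Projective.of_equiv (LinearMap.quotKerEquivOfSurjective _ (lineMap_surjective e i v)).symm
     rankAtStalk_eq := fun p => by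
      haveI : Nontrivial S := p.nontrivial
      rw [congrFun (Module.rankAtStalk_eq_of_equiv (LinearMap.quotKerEquivOfSurjective _ (lineMap_surjective e i v))) p,
        Module.rankAtStalk_eq_finrank_of_free]
      simp [Fintype.card_subtype_compl, Nat.mul_add, Nat.add_mul] },
    fun a x hx => by
      simp only [LinearMap.mem_ker, lineMap, LinearMap.comp_apply, AlgHom.toLinearMap_apply, rowMap_eq_zero hv] at hx ⊢
      intro r l
      simp only [map_mul, Matrix.mul_apply, Finset.sum_mul]
      exact Finset.sum_congr rfl fun t _ => by rw [hx t l, mul_assoc]⟩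

theorem mem_lineIdeal {i : Fin (m + 1)} {v : Fin (m + 1) → S} {hv : v i = 1} {x : S ⊗[k] A} :
    x ∈ (lineIdeal e i v hv).1.toSubmodule ↔ ∀ r l, splitMap e S x r l = splitMap e S x r i * v l := by
  rw [← rowMap_eq_zero hv]
  rfl

theorem lineIdeal_change {i j : Fin (m + 1)} {v : Fin (m + 1) → S} (hv : v i = 1) {c : S} (hc : c * v j = 1) :
    lineIdeal e i v hv = lineIdeal e j (fun l => c * v l) hc := by
  refine Subtype.ext (grass_eq_of_le _ _ fun x hx => ?_)
  rw [mem_lineIdeal] at hx ⊢
  intro r l
  rw [hx r j, hx r l, mul_assoc, ← mul_assoc (v j), mul_comm (v j) c, hc, one_mul]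

theorem lineIdeal_inj {i j : Fin (m + 1)} {v w : Fin (m + 1) → S} {hv : v i = 1} {hw : w j = 1}
    (h : lineIdeal e i v hv = lineIdeal e j w hw) : ∃ c : S, ∀ l, w l = c * v l := by
  obtain ⟨x, hx⟩ := (splitMap_bijective e S).2 (Matrix.of fun _ l => w l)
  have hx' : x ∈ (lineIdeal e j w hw).1.toSubmodule := by
    rw [mem_lineIdeal]; intro r l; simp [hx, hw]
  rw [← h, mem_lineIdeal] at hx'
  exact ⟨w i, fun l => by simpa [hx] using hx' 0 l⟩

theorem map_lineIdeal {T : Type u} [CommRing T] [Algebra k T] [Algebra K T] [IsScalarTower k K T]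
    (φ : S →ₐ[K] T) (i : Fin (m + 1)) (v : Fin (m + 1) → S) (hv : v i = 1) :
    Module.Grassmannian.map (φ.restrictScalars k) (lineIdeal e i v hv).1 =
      (lineIdeal e i (fun l => φ (v l)) ((congrArg φ hv).trans (map_one φ))).1 := by
  refine (grass_eq_of_le _ _ fun x hx => ?_).symm
  rw [mem_lineIdeal] at hx
  choose R hR using fun r : Fin (m + 1) => (splitMap_bijective e S).2 (Matrix.single r i 1 * Matrix.of fun _ l => v l)
  have hRmem : ∀ r, R r ∈ (lineIdeal e i v hv).1.toSubmodule := fun r => by
    rw [mem_lineIdeal]; intro r' l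
    by_cases hr : r = r'
    · subst hr; simp [hR, hv]
    · simp [hR, hv, Ne.symm hr]
  have hx' : x = ∑ r, splitMap e T x r i • (φ.restrictScalars k).toLinearMap.rTensor A (R r) := by
    apply (splitMap_bijective e T).1
    simp only [map_sum, map_smul, splitMap_rTensor, hR]
    ext r l
    rw [Matrix.sum_apply, Finset.sum_eq_single r]
    · simp [Matrix.mul_apply, Matrix.single_apply, hx r l]
    · intro r' _ hr'; simp [Matrix.mul_apply, Matrix.single_apply, hr']
    · simp
  rw [hx']
  exact Submodule.sum_mem _ fun r _ => Submodule.smul_mem _ _ (mem_map _ _ (hRmem r))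

theorem exists_unit_entry (N : BrSev.SBSet k A ((m + 1) * (m + 1) - (m + 1)) S) (x : PrimeSpectrum S) :
    ∃ z ∈ N.1.toSubmodule, ∃ r l, splitMap e S z r l ∉ x.asIdeal := by
  by_contra! h
  let κ := x.asIdeal.ResidueField
  let L : (S ⊗[k] A) →ₗ[S] Matrix (Fin (m + 1)) (Fin (m + 1)) κ :=
    (Algebra.linearMap S κ).mapMatrix ∘ₗ (splitMap e S).toLinearMap
  have hN : N.1.toSubmodule ≤ LinearMap.ker L := fun z hz => by
    rw [LinearMap.mem_ker]
    ext r l
    exact (Ideal.algebraMap_residueField_eq_zero).2 (h z hz r l)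
  let L₀ := Submodule.liftQ _ L hN
  let L' : κ ⊗[S] ((S ⊗[k] A) ⧸ N.1.toSubmodule) →ₗ[κ] Matrix (Fin (m + 1)) (Fin (m + 1)) κ := L₀.liftBaseChange κ
  have hL' : Function.Surjective L' := fun M => by
    refine LinearMap.mem_range.1 ?_
    rw [Matrix.matrix_eq_sum_single M]
    refine Submodule.sum_mem _ fun r _ => Submodule.sum_mem _ fun l _ => ?_
    obtain ⟨w, hw⟩ := (splitMap_bijective e S).2 (Matrix.single r l 1)
    refine ⟨M r l ⊗ₜ Submodule.Quotient.mk w, ?_⟩
    simp only [L', LinearMap.liftBaseChange_tmul, L₀, Submodule.liftQ_apply, L, LinearMap.comp_apply,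
      AlgHom.toLinearMap_apply, hw]
    ext a b
    by_cases ha : r = a <;> by_cases hb : l = b <;> simp [Matrix.single_apply, ha, hb]
  have h1 := LinearMap.finrank_le_finrank_of_surjective hL'
  rw [Module.finrank_matrix, Module.finrank_self, mul_one, Fintype.card_fin] at h1
  have h2 : Module.finrank κ (κ ⊗[S] ((S ⊗[k] A) ⧸ N.1.toSubmodule)) = (m + 1) * (m + 1) - (m + 1) :=
    (Module.rankAtStalk_eq x).symm.trans (N.1.rankAtStalk_eq x)
  rw [h2] at h1
  have : m + 1 ≤ (m + 1) * (m + 1) := Nat.le_mul_self _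
  omega

theorem exists_lineIdeal (N : BrSev.SBSet k A ((m + 1) * (m + 1) - (m + 1)) S) {z : S ⊗[k] A}
    (hz : z ∈ N.1.toSubmodule) (r i : Fin (m + 1)) {T : Type u} [CommRing T] [Algebra k T] [Algebra K T]
    [IsScalarTower k K T] (φ : S →ₐ[K] T) (N' : BrSev.SBSet k A ((m + 1) * (m + 1) - (m + 1)) T)
    (hN' : N'.1.toSubmodule = (Module.Grassmannian.map (φ.restrictScalars k) N.1).toSubmodule)
    {u : T} (hu : u * φ (splitMap e S z r i) = 1) :
    N' = lineIdeal e i (fun l => u * φ (splitMap e S z r l)) hu := by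
  refine Subtype.ext (grass_eq_of_le _ _ fun x hx => ?_).symm
  rw [mem_lineIdeal] at hx
  obtain ⟨a, ha⟩ := (splitMap_bijective e T).2
    (Matrix.of fun r' t => if t = r then splitMap e T x r' i * u else 0)
  have hx' : x = a * (φ.restrictScalars k).toLinearMap.rTensor A z := by
    apply (splitMap_bijective e T).1
    rw [map_mul, ha, splitMap_rTensor]
    ext r' l
    simp [Matrix.mul_apply, hx r' l, mul_assoc]
  rw [hx']
  exact N'.2 a _ (hN' ▸ mem_map _ _ hz)

end Groth.Agent.BrSev28
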