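import Groth.Agent.BrSev28.ProjPts
import Groth.Agent.BrSev28.Ideals

/-!
# A Severi–Brauer scheme of a split algebra is projective space
-/

set_option autoImplicit false
set_option backward.isDefEq.respectTransparency.types false

universe u

open CategoryTheory CategoryTheory.Limits AlgebraicGeometry
open scoped TensorProduct

namespace Groth.Agent.BrSev28

variable {k A K : Type u} [Field k] [Ring A] [Algebra k A] [Field K] [Algebra k K] {m : ℕ}
  (e : (K ⊗[k] A) ≃ₐ[K] Matrix (Fin (m + 1)) (Fin (m + 1)) K) {X : Scheme.{u}} {f : X ⟶ Spec (CommRingCat.of k)}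
  (σ : BrSev.SBStr k A ((m + 1) * (m + 1) - (m + 1)) f)

/-- The points over `K`. -/
noncomputable def linePt (S : Type u) [CommRing S] (q : K →+* S) (i : Fin (m + 1)) (v : Fin (m + 1) → S) (hv : v i = 1) :
    Spec (CommRingCat.of S) ⟶ BrSev.bc f K :=
  letI : Algebra K S := q.toAlgebra
  letI : Algebra k S := (q.comp (algebraMap k K)).toAlgebra
  haveI : IsScalarTower k K S := IsScalarTower.of_algebraMap_eq' rfl
  pullback.lift ((σ.bij S).symm (lineIdeal e i v hv)).1 (Spec.map (CommRingCat.ofHom q)) (by
    rw [((σ.bij S).symm (lineIdeal e i v hv)).2, ← Spec.map_comp, ← CommRingCat.ofHom_comp])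

include e σ in
theorem splitting_of_split : Nonempty (BrSev.Splitting f K m) := by
  suffices h : ∃ E : BrSev.bc f K ≅ CohB1.ProjSpace m K, E.hom ≫ CohB1.ProjSpace.toSpec m K = BrSev.bcTo f K by
    obtain ⟨E, hE⟩ := h
    exact ⟨⟨E, hE⟩⟩
  refine exists_iso_projSpace m (K := K) (Y := BrSev.bc f K) (BrSev.bcTo f K) (linePt e σ) ?_ ?_ ?_ ?_ ?_
  · intro S _ q i v hv
    exact pullback.lift_snd _ _ _
  · intro S T _ _ φ q i v hv
    letI : Algebra K S := q.toAlgebra
    letI : Algebra k S := (q.comp (algebraMap k K)).toAlgebra
    haveI : IsScalarTower k K S := IsScalarTower.of_algebraMap_eq' rfl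
    letI : Algebra K T := (φ.comp q).toAlgebra
    letI : Algebra k T := ((φ.comp q).comp (algebraMap k K)).toAlgebra
    haveI : IsScalarTower k K T := IsScalarTower.of_algebraMap_eq' rfl
    let φK : S →ₐ[K] T := { φ with commutes' := fun _ => rfl }
    apply pullback.hom_ext
    · simp only [linePt, Category.assoc, pullback.lift_fst]
      have : σ.bij T (BrSev.Pts.map f (φK.restrictScalars k) ((σ.bij S).symm (lineIdeal e i v hv))) =
          lineIdeal e i (fun l => φ (v l)) ((congrArg φ hv).trans (map_one φ)) := by
        refine Subtype.ext (Module.Grassmannian.ext ?_)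
        rw [σ.natural, Equiv.apply_symm_apply]
        exact congrArg Module.Grassmannian.toSubmodule (map_lineIdeal e φK i v hv)
      exact congrArg Subtype.val ((Equiv.eq_symm_apply (σ.bij T)).2 this)
    · simp only [linePt, Category.assoc, pullback.lift_snd, ← Spec.map_comp, ← CommRingCat.ofHom_comp]
  · intro S _ q i j v hv c hc
    letI : Algebra K S := q.toAlgebra
    letI : Algebra k S := (q.comp (algebraMap k K)).toAlgebra
    haveI : IsScalarTower k K S := IsScalarTower.of_algebraMap_eq' rfl
    apply pullback.hom_ext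
    · simp only [linePt, pullback.lift_fst]
      rw [lineIdeal_change e hv hc]
    · simp only [linePt, pullback.lift_snd]
  · intro S _ q i j v w hv hw h
    letI : Algebra K S := q.toAlgebra
    letI : Algebra k S := (q.comp (algebraMap k K)).toAlgebra
    haveI : IsScalarTower k K S := IsScalarTower.of_algebraMap_eq' rfl
    have h1 := congrArg (· ≫ pullback.fst _ _) h
    simp only [linePt, pullback.lift_fst] at h1
    exact lineIdeal_inj e ((σ.bij S).symm.injective (Subtype.ext h1))
  · intro S _ q g hg x
    letI : Algebra K S := q.toAlgebra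
    letI : Algebra k S := (q.comp (algebraMap k K)).toAlgebra
    haveI : IsScalarTower k K S := IsScalarTower.of_algebraMap_eq' rfl
    let P : BrSev.Pts f S := ⟨g ≫ pullback.fst _ _, by
      rw [Category.assoc, pullback.condition, ← Category.assoc, hg, ← Spec.map_comp, ← CommRingCat.ofHom_comp]⟩
    obtain ⟨z, hz, r, i, hzi⟩ := exists_unit_entry e (σ.bij S P) x
    let s := splitMap e S z r i
    have key : ∀ (T : Type u) [CommRing T] (φ : S →+* T) (u : T) (hu : u * φ (splitMap e S z r i) = 1),
        Spec.map (CommRingCat.ofHom φ) ≫ g =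
          linePt e σ T (φ.comp q) i (fun l => u * φ (splitMap e S z r l)) hu := by
      intro T _ φ u hu
      letI : Algebra K T := (φ.comp q).toAlgebra
      letI : Algebra k T := ((φ.comp q).comp (algebraMap k K)).toAlgebra
      haveI : IsScalarTower k K T := IsScalarTower.of_algebraMap_eq' rfl
      let φK : S →ₐ[K] T := { φ with commutes' := fun _ => rfl }
      apply pullback.hom_ext
      · simp only [linePt, Category.assoc, pullback.lift_fst]
        have := exists_lineIdeal e (σ.bij S P) hz r i φK (σ.bij T (BrSev.Pts.map f (φK.restrictScalars k) P))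
          (σ.natural S T (φK.restrictScalars k) P) hu
        exact congrArg Subtype.val ((Equiv.eq_symm_apply (σ.bij T)).2 this)
      · simp only [linePt, Category.assoc, pullback.lift_snd]
        show Spec.map _ ≫ g ≫ BrSev.bcTo f K = _
        rw [hg, ← Spec.map_comp, ← CommRingCat.ofHom_comp]
    obtain ⟨u, hu⟩ := isUnit_iff_exists_inv'.1 (IsLocalization.Away.algebraMap_isUnit (S := Localization.Away s) s)
    exact ⟨s, hzi, i, _, hu, key _ (algebraMap S (Localization.Away s)) u hu⟩

end Groth.Agent.BrSev28
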