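import Groth.Agent.H8Constr.AffineChart
import Mathlib

/-!
# Recognising projective space by its points

A scheme over `K` with points indexed naturally by normalised vectors, unique up to proportionality
and covering all points locally, is projective space.
-/

set_option autoImplicit false

set_option backward.isDefEq.respectTransparency.types false

universe u

open CategoryTheory CategoryTheory.Limits AlgebraicGeometry MvPolynomial HomogeneousLocalization
open Groth.Agent.ProjLib Groth.Agent.H8Constr

namespace Groth.Agent.BrSev28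

variable (m : ℕ) {K : Type u} [CommRing K]

/-- The coordinate `X l / X i`. -/
noncomputable def coord (i l : Fin (m + 1)) : Away (CohB1.polyGrading m K) (X i) :=
  HomogeneousLocalization.mk ⟨1, ⟨X l, isHomogeneous_X K l⟩, ⟨X i, isHomogeneous_X K i⟩, ⟨1, pow_one _⟩⟩

theorem coord_self (i : Fin (m + 1)) : coord m (K := K) i i = 1 := by
  apply HomogeneousLocalization.val_injective
  rw [coord, HomogeneousLocalization.val_mk, HomogeneousLocalization.val_one, Localization.mk_eq_mk',
    IsLocalization.mk'_eq_iff_eq_mul, one_mul]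

theorem coord_eq_mk (i l : Fin (m + 1)) : coord m (K := K) i l =
    Away.mk (CohB1.polyGrading m K) (X_mem_polyGrading m K i) 1 (X l) (by simpa using isHomogeneous_X K l) := by
  apply HomogeneousLocalization.val_injective
  rw [coord, HomogeneousLocalization.val_mk, Away.val_mk]
  simp only [pow_one]

theorem away_hom_ext (i : Fin (m + 1)) {S : Type u} [CommRing S] {a b : Away (CohB1.polyGrading m K) (X i) →+* S}
    (h₀ : a.comp (toAway m K (X i)) = b.comp (toAway m K (X i))) (h₁ : ∀ l, a (coord m i l) = b (coord m i l)) :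
    a = b := by
  refine RingHom.ext fun x => ?_
  obtain ⟨p, rfl⟩ := (chartHom_bijective m K i).2 x
  have : a.comp (chartHom m K i) = b.comp (chartHom m K i) := by
    refine MvPolynomial.ringHom_ext (fun r => ?_) (fun j => ?_)
    · simpa [chartHom] using RingHom.congr_fun h₀ r
    · simpa [chartHom, coord] using h₁ j.1
  exact RingHom.congr_fun this p

theorem exists_away_hom {S : Type u} [CommRing S] (q : K →+* S) (i : Fin (m + 1)) (v : Fin (m + 1) → S) (hv : v i = 1) :
    ∃ a : Away (CohB1.polyGrading m K) (X i) →+* S, a.comp (toAway m K (X i)) = q ∧ ∀ l, a (coord m i l) = v l := by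
  let E := RingEquiv.ofBijective (chartHom m K i) (chartHom_bijective m K i)
  refine ⟨(eval₂Hom q fun j => v j.1).comp E.symm.toRingHom, RingHom.ext fun r => ?_, fun l => ?_⟩
  · have : E.symm (toAway m K (X i) r) = C r := by
      refine E.symm_apply_eq.2 ?_
      simp [E, chartHom]
    simp [this]
  · by_cases h : l = i
    · subst h
      rw [coord_self, map_one, hv]
    · have : E.symm (coord m i l) = X ⟨l, h⟩ := by
        refine E.symm_apply_eq.2 ?_
        simp [E, chartHom, coord]
      simp [this]

/-- The point with normalised coordinates `v`. -/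
noncomputable def pt {S : Type u} [CommRing S] (q : K →+* S) (i : Fin (m + 1)) (v : Fin (m + 1) → S)
    (hv : v i = 1) : Spec (CommRingCat.of S) ⟶ CohB1.ProjSpace m K :=
  Spec.map (CommRingCat.ofHom (exists_away_hom m q i v hv).choose) ≫
    Proj.awayι (CohB1.polyGrading m K) (X i) (X_mem_polyGrading m K i) one_pos

theorem pt_toSpec {S : Type u} [CommRing S] (q : K →+* S) (i : Fin (m + 1)) (v : Fin (m + 1) → S) (hv : v i = 1) :
    pt m q i v hv ≫ CohB1.ProjSpace.toSpec m K = Spec.map (CommRingCat.ofHom q) := by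
  refine (Category.assoc _ _ _).trans ?_
  refine (congrArg (fun g => Spec.map (CommRingCat.ofHom (exists_away_hom m q i v hv).choose) ≫ g)
    (awayι_toSpec m K (X_mem_polyGrading m K i) one_pos)).trans ?_
  rw [← Spec.map_comp, ← CommRingCat.ofHom_comp, (exists_away_hom m q i v hv).choose_spec.1]

theorem pt_eq {S : Type u} [CommRing S] (i : Fin (m + 1)) (a : Away (CohB1.polyGrading m K) (X i) →+* S)
    (q : K →+* S) (hq : a.comp (toAway m K (X i)) = q) (v : Fin (m + 1) → S) (hv : v i = 1)
    (hl : ∀ l, a (coord m i l) = v l) :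
    pt m q i v hv = Spec.map (CommRingCat.ofHom a) ≫
      Proj.awayι (CohB1.polyGrading m K) (X i) (X_mem_polyGrading m K i) one_pos := by
  rw [pt, away_hom_ext m i (b := a) ((exists_away_hom m q i v hv).choose_spec.1.trans hq.symm)
    fun l => ((exists_away_hom m q i v hv).choose_spec.2 l).trans (hl l).symm]
  rfl

theorem pt_comp {S T : Type u} [CommRing S] [CommRing T] (φ : S →+* T) (q : K →+* S) (i : Fin (m + 1))
    (v : Fin (m + 1) → S) (hv : v i = 1) :
    Spec.map (CommRingCat.ofHom φ) ≫ pt m q i v hv =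
      pt m (φ.comp q) i (fun l => φ (v l)) (by rw [hv, map_one]) := by
  obtain ⟨h₀, h₁⟩ := (exists_away_hom m q i v hv).choose_spec
  rw [pt_eq m i (φ.comp (exists_away_hom m q i v hv).choose) _ (by rw [RingHom.comp_assoc, h₀]) _ _
    fun l => congrArg φ (h₁ l), CommRingCat.ofHom_comp, Spec.map_comp, Category.assoc, pt]
  rfl

theorem map_toAway_awayMap (i j : Fin (m + 1)) (r : K) :
    awayMap (CohB1.polyGrading m K) (X_mem_polyGrading m K j) (rfl : (X i * X j : MvPolynomial (Fin (m + 1)) K) = _)
      (toAway m K (X i) r) = toAway m K (X i * X j) r := by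
  apply HomogeneousLocalization.val_injective
  rw [val_awayMap, val_toAway, val_toAway, Localization.awayLift, IsLocalization.Away.lift_eq]

theorem awayMap_coord_mul (i j l : Fin (m + 1)) {x : MvPolynomial (Fin (m + 1)) K} (hx : x = X i * X j) (hx' : x = X j * X i) :
    awayMap (CohB1.polyGrading m K) (X_mem_polyGrading m K i) hx' (coord m j l) *
        awayMap (CohB1.polyGrading m K) (X_mem_polyGrading m K j) hx (coord m i j) =
      awayMap (CohB1.polyGrading m K) (X_mem_polyGrading m K j) hx (coord m i l) := by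
  apply HomogeneousLocalization.val_injective
  simp only [coord_eq_mk, awayMap_mk, HomogeneousLocalization.val_mul, Away.val_mk, Localization.mk_mul]
  rw [Localization.mk_eq_mk_iff, Localization.r_iff_exists]
  refine ⟨1, ?_⟩
  subst hx
  simp only [OneMemClass.coe_one, one_mul, Submonoid.coe_mul]
  ring

theorem awayMap_toAway (i j : Fin (m + 1)) {x : MvPolynomial (Fin (m + 1)) K} (hx : x = X i * X j) :
    (awayMap (CohB1.polyGrading m K) (X_mem_polyGrading m K j) hx).comp (toAway m K (X i)) = toAway m K x := by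
  refine RingHom.ext fun r => HomogeneousLocalization.val_injective _ ?_
  rw [RingHom.comp_apply, val_awayMap, val_toAway, val_toAway, Localization.awayLift, IsLocalization.Away.lift_eq]

theorem pt_change {S : Type u} [CommRing S] (q : K →+* S) (i j : Fin (m + 1)) (v : Fin (m + 1) → S) (hv : v i = 1)
    (c : S) (hc : c * v j = 1) :
    pt m q i v hv = pt m q j (fun l => c * v l) hc := by
  obtain ⟨h₀, h₁⟩ := (exists_away_hom m q i v hv).choose_spec
  set a := (exists_away_hom m q i v hv).choose
  let μ := awayMap (CohB1.polyGrading m K) (X_mem_polyGrading m K j) (rfl : (X i * X j : MvPolynomial (Fin (m + 1)) K) = _)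
  let μ' := awayMap (CohB1.polyGrading m K) (X_mem_polyGrading m K i) (mul_comm (X i) (X j) : (X i * X j : MvPolynomial (Fin (m + 1)) K) = _)
  let := μ.toAlgebra
  have := Away.isLocalization_mul (X_mem_polyGrading m K i) (X_mem_polyGrading m K j)
    (rfl : (X i * X j : MvPolynomial (Fin (m + 1)) K) = _) one_ne_zero
  have helem : Away.isLocalizationElem (X_mem_polyGrading m K i) (X_mem_polyGrading m K j) = coord m i j := by
    apply HomogeneousLocalization.val_injective
    simp [Away.isLocalizationElem, coord, Away.val_mk, HomogeneousLocalization.val_mk]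
  have hu : IsUnit (a (Away.isLocalizationElem (X_mem_polyGrading m K i) (X_mem_polyGrading m K j))) := by
    rw [helem, h₁]; exact IsUnit.of_mul_eq_one c (by rw [mul_comm, hc])
  let b : Away (CohB1.polyGrading m K) (X i * X j) →+* S := IsLocalization.Away.lift _ hu
  have hb : b.comp μ = a := IsLocalization.Away.lift_comp _ hu
  have hprod : ∀ l, μ' (coord m j l) * μ (coord m i j) = μ (coord m i l) := by
    intro l
    apply HomogeneousLocalization.val_injective
    simp only [μ, μ', coord_eq_mk, awayMap_mk, HomogeneousLocalization.val_mul, Away.val_mk, Localization.mk_mul]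
    rw [Localization.mk_eq_mk_iff, Localization.r_iff_exists]
    refine ⟨1, ?_⟩
    simp only [OneMemClass.coe_one, one_mul, Submonoid.coe_mul]
    ring
  rw [pt_eq m i (b.comp μ) q (by rw [hb]; exact h₀) v hv (by rw [hb]; exact h₁),
    pt_eq m j (b.comp μ') q ?_ (fun l => c * v l) hc fun l => ?_, CommRingCat.ofHom_comp, CommRingCat.ofHom_comp,
    Spec.map_comp, Spec.map_comp, Category.assoc, Category.assoc, Proj.SpecMap_awayMap_awayι,
    Proj.SpecMap_awayMap_awayι]
  · refine RingHom.ext fun r => ?_
    have e : μ' (toAway m K (X j) r) = μ (toAway m K (X i) r) := by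
      rw [map_toAway_awayMap m i j r]
      apply HomogeneousLocalization.val_injective
      rw [val_awayMap, val_toAway, val_toAway, Localization.awayLift, IsLocalization.Away.lift_eq]
    simp only [RingHom.comp_apply, e]
    exact (RingHom.congr_fun hb _).trans (RingHom.congr_fun h₀ r)
  · have := congrArg b (hprod l)
    rw [map_mul, ← RingHom.comp_apply, ← RingHom.comp_apply b μ, ← RingHom.comp_apply b μ, hb, h₁, h₁] at this
    rw [← this]
    linear_combination (b.comp μ' (coord m j l)) * (-hc)

theorem exists_pt_local {S : Type u} [CommRing S] (q : K →+* S) (z : Spec (CommRingCat.of S) ⟶ CohB1.ProjSpace m K)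
    (hz : z ≫ CohB1.ProjSpace.toSpec m K = Spec.map (CommRingCat.ofHom q)) (x : PrimeSpectrum S) :
    ∃ f : S, f ∉ x.asIdeal ∧ ∃ (i : Fin (m + 1)) (v : Fin (m + 1) → Localization.Away f) (hv : v i = 1),
      Spec.map (CommRingCat.ofHom (algebraMap S (Localization.Away f))) ≫ z =
        pt m ((algebraMap S (Localization.Away f)).comp q) i v hv := by
  obtain ⟨i, hi⟩ := TopologicalSpace.Opens.mem_iSup.mp
    ((iSup_basicOpen_X m K).ge (TopologicalSpace.Opens.mem_top (z x)))
  let W : (Spec (CommRingCat.of S)).Opens := z ⁻¹ᵁ Proj.basicOpen (CohB1.polyGrading m K) (X i)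
  obtain ⟨_, ⟨f, rfl⟩, hxf, hfW⟩ := PrimeSpectrum.isTopologicalBasis_basic_opens.exists_subset_of_mem_open
    (show x ∈ (W.1 : Set (PrimeSpectrum S)) from hi) W.2
  let j := Spec.map (CommRingCat.ofHom (algebraMap S (Localization.Away f)))
  let ι : Spec (CommRingCat.of (Away (CohB1.polyGrading m K) (X i))) ⟶ CohB1.ProjSpace m K :=
    Proj.awayι (CohB1.polyGrading m K) (X i) (X_mem_polyGrading m K i) one_pos
  have : IsOpenImmersion ι := inferInstanceAs (IsOpenImmersion (Proj.awayι _ _ _ _))
  have hr : Set.range (j ≫ z) ⊆ Set.range ι := by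
    rintro _ ⟨w, rfl⟩
    have hw : j w ∈ (PrimeSpectrum.basicOpen f : Set (PrimeSpectrum S)) := by
      rw [← PrimeSpectrum.localization_away_comap_range (Localization.Away f) f]
      exact ⟨w, rfl⟩
    have := hfW hw
    have e := Proj.opensRange_awayι (CohB1.polyGrading m K) (X i) (X_mem_polyGrading m K i) one_pos
    exact (show _ ∈ (Proj.awayι (CohB1.polyGrading m K) (X i) (X_mem_polyGrading m K i) one_pos).opensRange from e ▸ this)
  obtain ⟨a, ha⟩ := Spec.map_surjective (IsOpenImmersion.lift ι (j ≫ z) hr)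
  have hl : Spec.map a ≫ ι = j ≫ z := by rw [ha]; exact IsOpenImmersion.lift_fac _ _ _
  have h₀ : a.hom.comp (toAway m K (X i)) = (algebraMap S (Localization.Away f)).comp q := by
    have e : CommRingCat.ofHom (a.hom.comp (toAway m K (X i))) =
        CommRingCat.ofHom ((algebraMap S (Localization.Away f)).comp q) := by
      apply Spec.map_injective
      have h1 : Spec.map (CommRingCat.ofHom (toAway m K (X i))) = ι ≫ CohB1.ProjSpace.toSpec m K :=
        (awayι_toSpec m K (X_mem_polyGrading m K i) one_pos).symm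
      rw [CommRingCat.ofHom_comp, CommRingCat.ofHom_comp, Spec.map_comp, Spec.map_comp, CommRingCat.ofHom_hom,
        h1, ← Category.assoc, hl, Category.assoc, hz]
    exact congrArg CommRingCat.Hom.hom e
  refine ⟨f, hxf, i, fun l => a.hom (coord m i l), (congrArg a.hom (coord_self m i)).trans (map_one _), ?_⟩
  rw [pt_eq m i a.hom _ h₀ _ _ fun _ => rfl, CommRingCat.ofHom_hom]
  exact hl.symm

theorem isIso_of_mono_of_local {P Y : Scheme.{u}} (φ : P ⟶ Y) [Mono φ]
    (h : ∀ y : Y, ∃ (V : Scheme.{u}) (j : V ⟶ Y) (σ : V ⟶ P), IsOpenImmersion j ∧ y ∈ Set.range j ∧ σ ≫ φ = j) :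
    IsIso φ := by
  choose V j σ hj hy hσ using h
  let 𝒱 : Y.OpenCover :=
    { I₀ := Y
      X := V
      f := j
      mem₀ := by
        rw [Scheme.presieve₀_mem_precoverage_iff]
        exact ⟨fun y => ⟨y, hy y⟩, hj⟩ }
  let s : Y ⟶ P := 𝒱.glueMorphisms σ fun a b => by
    rw [← cancel_mono φ, Category.assoc, Category.assoc, hσ, hσ]
    exact pullback.condition
  have hs : s ≫ φ = 𝟙 Y := 𝒱.hom_ext _ _ fun a => by
    rw [Category.comp_id, ← Category.assoc, Scheme.Cover.ι_glueMorphisms]
    exact hσ a
  exact ⟨s, by rw [← cancel_mono φ, Category.assoc, hs, Category.comp_id, Category.id_comp], hs⟩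

theorem eq_of_local {S : Type u} [CommRing S] {P : Scheme.{u}} (z z' : Spec (CommRingCat.of S) ⟶ P)
    (h : ∀ x : PrimeSpectrum S, ∃ (f : S), f ∉ x.asIdeal ∧
      Spec.map (CommRingCat.ofHom (algebraMap S (Localization.Away f))) ≫ z =
        Spec.map (CommRingCat.ofHom (algebraMap S (Localization.Away f))) ≫ z') : z = z' := by
  choose f hf he using h
  refine Scheme.Cover.hom_ext (𝒰 :=
    { I₀ := PrimeSpectrum S
      X := fun x => Spec (CommRingCat.of (Localization.Away (f x)))
      f := fun x => Spec.map (CommRingCat.ofHom (algebraMap S (Localization.Away (f x))))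
      mem₀ := by
        rw [Scheme.presieve₀_mem_precoverage_iff]
        refine ⟨fun x => ⟨x, ?_⟩, fun x => ?_⟩
        · exact ((PrimeSpectrum.localization_away_comap_range (Localization.Away (f x)) (f x)).symm ▸
            (show x ∈ PrimeSpectrum.basicOpen (f x) from hf x) :
            x ∈ Set.range (PrimeSpectrum.comap (algebraMap S (Localization.Away (f x)))))
        · exact IsOpenImmersion.of_isLocalization (f x) }) _ _ he

/-- The recognition principle. -/
theorem exists_iso_projSpace {Y : Scheme.{u}} (p : Y ⟶ Spec (CommRingCat.of K))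
    (y : ∀ (S : Type u) [CommRing S] (q : K →+* S) (i : Fin (m + 1)) (v : Fin (m + 1) → S), v i = 1 →
      (Spec (CommRingCat.of S) ⟶ Y))
    (hy : ∀ (S : Type u) [CommRing S] (q : K →+* S) i v hv, y S q i v hv ≫ p = Spec.map (CommRingCat.ofHom q))
    (hnat : ∀ (S T : Type u) [CommRing S] [CommRing T] (φ : S →+* T) (q : K →+* S) i (v : Fin (m + 1) → S) hv,
      Spec.map (CommRingCat.ofHom φ) ≫ y S q i v hv =
        y T (φ.comp q) i (fun l => φ (v l)) ((congrArg φ hv).trans (map_one φ)))
    (hchange : ∀ (S : Type u) [CommRing S] (q : K →+* S) i j (v : Fin (m + 1) → S) hv c hc,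
      y S q i v hv = y S q j (fun l => c * v l) hc)
    (hinj : ∀ (S : Type u) [CommRing S] (q : K →+* S) i j (v w : Fin (m + 1) → S) hv hw,
      y S q i v hv = y S q j w hw → ∃ c : S, ∀ l, w l = c * v l)
    (hloc : ∀ (S : Type u) [CommRing S] (q : K →+* S) (g : Spec (CommRingCat.of S) ⟶ Y),
      g ≫ p = Spec.map (CommRingCat.ofHom q) → ∀ x : PrimeSpectrum S,
      ∃ f : S, f ∉ x.asIdeal ∧ ∃ (i : Fin (m + 1)) (v : Fin (m + 1) → Localization.Away f) (hv : v i = 1),
        Spec.map (CommRingCat.ofHom (algebraMap S (Localization.Away f))) ≫ g =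
          y (Localization.Away f) ((algebraMap S (Localization.Away f)).comp q) i v hv) :
    ∃ e : Y ≅ CohB1.ProjSpace m K, e.hom ≫ CohB1.ProjSpace.toSpec m K = p := by
  let 𝒜 := CohB1.polyGrading m K
  let ι : ∀ i : Fin (m + 1), Spec (CommRingCat.of (Away (CohB1.polyGrading m K) (X i))) ⟶ CohB1.ProjSpace m K :=
    fun i => Proj.awayι (CohB1.polyGrading m K) (X i) (X_mem_polyGrading m K i) one_pos
  have hι : ∀ i, IsOpenImmersion (ι i) := fun i => inferInstanceAs (IsOpenImmersion (Proj.awayι _ _ _ _))
  let 𝒰 : (CohB1.ProjSpace m K).OpenCover :=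
    { I₀ := Fin (m + 1)
      X := fun i => Spec (CommRingCat.of (Away (CohB1.polyGrading m K) (X i)))
      f := ι
      mem₀ := by
        rw [Scheme.presieve₀_mem_precoverage_iff]
        refine ⟨fun z => ?_, hι⟩
        obtain ⟨i, hi⟩ := TopologicalSpace.Opens.mem_iSup.mp
          ((iSup_basicOpen_X m K).ge (TopologicalSpace.Opens.mem_top z))
        have e := Proj.opensRange_awayι (CohB1.polyGrading m K) (X i) (X_mem_polyGrading m K i) one_pos
        exact ⟨i, (show z ∈ (Proj.awayι (CohB1.polyGrading m K) (X i) (X_mem_polyGrading m K i) one_pos).opensRange from e ▸ hi)⟩ }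
  let u : ∀ i : Fin (m + 1), Spec (CommRingCat.of (Away (CohB1.polyGrading m K) (X i))) ⟶ Y :=
    fun i => y _ (toAway m K (X i)) i (coord m i) (coord_self m i)
  have hu : ∀ {S : Type u} [CommRing S] (q : K →+* S) (i : Fin (m + 1)) (a : Away (CohB1.polyGrading m K) (X i) →+* S)
      (_ : a.comp (toAway m K (X i)) = q) (v : Fin (m + 1) → S) (hv : v i = 1), (∀ l, a (coord m i l) = v l) →
      Spec.map (CommRingCat.ofHom a) ≫ u i = y S q i v hv := by
    intro S _ q i a hq v hv hl
    rw [hnat]
    subst hq
    have e : (fun l => a (coord m i l)) = v := funext hl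
    subst e
    rfl
  let φ : CohB1.ProjSpace m K ⟶ Y := 𝒰.glueMorphisms u fun i j => by
    let x : MvPolynomial (Fin (m + 1)) K := X i * X j
    let Q := Proj.pullbackAwayιIso (CohB1.polyGrading m K) (X_mem_polyGrading m K i) one_pos
      (X_mem_polyGrading m K j) one_pos (rfl : x = X i * X j)
    refine (cancel_epi Q.inv).1 ?_
    have e1 : Q.inv ≫ pullback.fst (𝒰.f i) (𝒰.f j) = _ := Proj.pullbackAwayιIso_inv_fst ..
    have e2 : Q.inv ≫ pullback.snd (𝒰.f i) (𝒰.f j) = _ := Proj.pullbackAwayιIso_inv_snd ..
    refine ((Category.assoc _ _ _).symm.trans (congrArg (· ≫ u i) e1)).trans (Eq.trans ?_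
      ((Category.assoc _ _ _).symm.trans (congrArg (· ≫ u j) e2)).symm)
    rw [hu (toAway m K x) i _ (awayMap_toAway m i j rfl) _ ((congrArg _ (coord_self m i)).trans (map_one _)) fun _ => rfl,
      hu (toAway m K x) j _ (awayMap_toAway m j i (mul_comm _ _)) _ ((congrArg _ (coord_self m j)).trans (map_one _)) fun _ => rfl]
    have hc := awayMap_coord_mul m (K := K) j i (x := x)
    rw [hchange _ _ i j _ _ (awayMap (CohB1.polyGrading m K) (X_mem_polyGrading m K i) (mul_comm (X i) (X j) : x = _) (coord m j i))
      ((mul_comm _ _).trans ((hc j (mul_comm _ _) rfl).trans ((congrArg _ (coord_self m j)).trans (map_one _))))]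
    congr 1
    funext l
    exact (mul_comm _ _).trans (hc l (mul_comm _ _) rfl)
  have hpt : ∀ {S : Type u} [CommRing S] (q : K →+* S) i (v : Fin (m + 1) → S) hv,
      pt m q i v hv ≫ φ = y S q i v hv := by
    intro S _ q i v hv
    obtain ⟨h₀, h₁⟩ := (exists_away_hom m q i v hv).choose_spec
    rw [pt, Category.assoc]
    refine Eq.trans ?_ (hu q i _ h₀ v hv h₁)
    exact congrArg _ (𝒰.ι_glueMorphisms u _ i)
  have hφp : φ ≫ p = CohB1.ProjSpace.toSpec m K := 𝒰.hom_ext _ _ fun i => by
    rw [Scheme.Cover.ι_glueMorphisms_assoc]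
    exact (hy _ _ _ _ _).trans (awayι_toSpec m K (X_mem_polyGrading m K i) one_pos).symm
  have huniq : ∀ {S : Type u} [CommRing S] (z z' : Spec (CommRingCat.of S) ⟶ CohB1.ProjSpace m K),
      z ≫ φ = z' ≫ φ → z = z' := by
    intro S _ z z' h
    refine eq_of_local z z' fun x => ?_
    obtain ⟨qc, hqc⟩ := Spec.map_surjective (z ≫ CohB1.ProjSpace.toSpec m K)
    have hq : z ≫ CohB1.ProjSpace.toSpec m K = Spec.map (CommRingCat.ofHom qc.hom) := hqc.symm
    have hq' : z' ≫ CohB1.ProjSpace.toSpec m K = Spec.map (CommRingCat.ofHom qc.hom) := by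
      rw [← hq, ← hφp, ← Category.assoc, ← h, Category.assoc]
    obtain ⟨f, hf, i, v, hv, e⟩ := exists_pt_local m qc.hom z hq x
    obtain ⟨g, hg, j, w, hw, e'⟩ := exists_pt_local m qc.hom z' hq' x
    refine ⟨f * g, fun hfg => (x.2.mem_or_mem hfg).elim hf hg, ?_⟩
    let α : Localization.Away f →+* Localization.Away (f * g) := Localization.awayLift (algebraMap S _) f
      (isUnit_of_dvd_unit (map_dvd _ (dvd_mul_right f g)) (IsLocalization.Away.algebraMap_isUnit (f * g)))
    let β : Localization.Away g →+* Localization.Away (f * g) := Localization.awayLift (algebraMap S _) g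
      (isUnit_of_dvd_unit (map_dvd _ (dvd_mul_left g f)) (IsLocalization.Away.algebraMap_isUnit (f * g)))
    have hα : α.comp (algebraMap S _) = algebraMap S _ := IsLocalization.Away.lift_comp _ _
    have hβ : β.comp (algebraMap S _) = algebraMap S _ := IsLocalization.Away.lift_comp _ _
    have E := congrArg (Spec.map (CommRingCat.ofHom α) ≫ ·) e
    have E' := congrArg (Spec.map (CommRingCat.ofHom β) ≫ ·) e'
    simp only [← Category.assoc, ← Spec.map_comp, ← CommRingCat.ofHom_comp, hα, hβ, pt_comp, ← RingHom.comp_assoc] at E E'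
    rw [E, E']
    set q := (algebraMap S (Localization.Away (f * g))).comp qc.hom
    set v' := fun l => α (v l)
    set w' := fun l => β (w l)
    have hv' : v' i = 1 := by simp [v', hv]
    have hw' : w' j = 1 := by simp [w', hw]
    have heq : y _ q i v' hv' = y _ q j w' hw' := by
      rw [← hpt, ← hpt, ← E, ← E', Category.assoc, Category.assoc, h]
    obtain ⟨c, hc⟩ := hinj _ q i j v' w' hv' hw' heq
    have hcj : c * v' j = 1 := by rw [← hc, hw']
    rw [pt_change m q i j v' hv' c hcj]
    congr 1
    exact (funext hc).symm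
  haveI : Mono φ := ⟨fun {T} z z' h => T.affineOpenCover.openCover.hom_ext _ _ fun a =>
    huniq _ _ ((Category.assoc _ _ _).trans ((congrArg (T.affineOpenCover.openCover.f a ≫ ·) h).trans (Category.assoc _ _ _).symm))⟩
  haveI : IsIso φ := by
    refine isIso_of_mono_of_local φ fun η => ?_
    obtain ⟨a, x, hx⟩ : ∃ a, η ∈ Set.range (Y.affineOpenCover.f a) := ⟨_, Y.affineOpenCover.covers η⟩
    obtain ⟨qc, hqc⟩ := Spec.map_surjective (Y.affineOpenCover.f a ≫ p)
    obtain ⟨f, hf, i, v, hv, e⟩ := hloc _ qc.hom (Y.affineOpenCover.f a) hqc.symm x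
    refine ⟨_, _, pt m _ i v hv, ?_, ?_, (hpt _ i v hv).trans e.symm⟩
    · haveI : IsOpenImmersion (Spec.map (CommRingCat.ofHom (algebraMap _ (Localization.Away f)))) :=
        IsOpenImmersion.of_isLocalization f
      infer_instance
    · obtain ⟨w, hw⟩ : x ∈ Set.range (PrimeSpectrum.comap (algebraMap (Y.affineOpenCover.X a) (Localization.Away f))) := by
        rw [PrimeSpectrum.localization_away_comap_range (Localization.Away f) f]
        exact hf
      exact ⟨w, (congrArg (Y.affineOpenCover.f a) hw).trans hx⟩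
  exact ⟨(asIso φ).symm, (Iso.inv_comp_eq (asIso φ)).2 hφp.symm⟩

end Groth.Agent.BrSev28
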